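import Mathlib
import Groth.Agent.N2Lib.Basic
import Groth.Agent.FinIntClosure.Basic

set_option autoImplicit false
set_option linter.style.haveILetI false

/-! # Normal test curves through a closed point over a Nagata ring -/

universe u

open scoped nonZeroDivisors

namespace Groth.Agent.CurveTest

/-- A prime `Q` below `m` avoiding `t` such that there is no prime strictly between. -/
theorem exists_prime_dim_one {B : Type u} [CommRing B] [IsNoetherianRing B] [IsDomain B]
    (m : Ideal B) [m.IsPrime] (t : B) (ht0 : t ≠ 0) (htm : t ∈ m) :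
    ∃ Q : Ideal B, Q.IsPrime ∧ Q ≤ m ∧ t ∉ Q ∧ ∀ q : Ideal B, q.IsPrime → Q < q → q ≤ m → q = m := by
  classical
  obtain ⟨Q, ⟨hQ, hQm, htQ⟩, hmax⟩ := set_has_maximal_iff_noetherian.mpr
    (inferInstance : IsNoetherianRing B) {Q : Ideal B | Q.IsPrime ∧ Q ≤ m ∧ t ∉ Q}
    ⟨⊥, Ideal.isPrime_bot, bot_le, fun h => ht0 ((Ideal.mem_bot).mp h)⟩
  refine ⟨Q, hQ, hQm, htQ, ?_⟩
  let D := B ⧸ Q
  let π := Ideal.Quotient.mk Q
  have hπ : Function.Surjective π := Ideal.Quotient.mk_surjective
  have hker : RingHom.ker π ≤ m := by rw [Ideal.mk_ker]; exact hQm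
  let m' : Ideal D := m.map π
  haveI hm' : m'.IsPrime := Ideal.map_isPrime_of_surjective hπ hker
  have hcm : m'.comap π = m := by
    rw [Ideal.comap_map_of_surjective π hπ, ← RingHom.ker_eq_comap_bot, sup_eq_left]; exact hker
  have hbig : ∀ q : Ideal D, q.IsPrime → q ≤ m' → q ≠ ⊥ → π t ∈ q := by
    intro q hq hqm hne
    by_contra ht
    refine hmax (q.comap π) ⟨Ideal.comap_isPrime π q, hcm ▸ Ideal.comap_mono hqm, ht⟩
      (lt_of_le_of_ne ?_ ?_)
    · intro x hx
      show π x ∈ q
      rw [Ideal.Quotient.eq_zero_iff_mem.mpr hx]; exact q.zero_mem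
    · intro e
      apply hne
      rw [← Ideal.map_comap_of_surjective π hπ q, ← e, Ideal.map_quotient_self]
  have ht' : π t ≠ 0 := fun h => htQ (Ideal.Quotient.eq_zero_iff_mem.mp h)
  let M : Set (Ideal D) := {q | q ∈ (Ideal.span {π t}).minimalPrimes ∧ q ≤ m'}
  have hM : M.Finite := (Ideal.finite_minimalPrimes_of_isNoetherianRing D _).subset fun q hq => hq.1
  have hcov : (m' : Set D) ⊆ ⋃ q ∈ M, (q : Set D) := by
    intro x hx
    by_cases hx0 : x = 0
    · subst hx0
      obtain ⟨q, hq, hqm⟩ := Ideal.exists_minimalPrimes_le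
        (show Ideal.span {π t} ≤ m' from (Ideal.span_singleton_le_iff_mem m').mpr (Ideal.mem_map_of_mem π htm))
      exact Set.mem_biUnion (show q ∈ M from ⟨hq, hqm⟩) q.zero_mem
    · obtain ⟨q, hq, hqm⟩ := Ideal.exists_minimalPrimes_le
        (show Ideal.span {x} ≤ m' from (Ideal.span_singleton_le_iff_mem m').mpr hx)
      haveI := hq.isPrime
      have hxq : x ∈ q := (Ideal.span_singleton_le_iff_mem q).mp hq.le
      have hne : q ≠ ⊥ := fun h => hx0 ((Ideal.mem_bot).mp (h ▸ hxq))
      have htq : π t ∈ q := hbig q inferInstance hqm hne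
      obtain ⟨q', hq', hle⟩ := Ideal.exists_minimalPrimes_le
        (show Ideal.span {π t} ≤ q from (Ideal.span_singleton_le_iff_mem q).mpr htq)
      rcases hle.eq_or_lt with rfl | hlt
      · exact Set.mem_biUnion (show q' ∈ M from ⟨hq', hqm⟩) hxq
      · haveI := hq'.isPrime
        exfalso
        have hb : (⊥ : Ideal D) < q' := bot_lt_iff_ne_bot.mpr fun h =>
          ht' ((Ideal.mem_bot).mp (h ▸ (Ideal.span_singleton_le_iff_mem q').mp hq'.le))
        have h1 : q.height ≤ 1 := Ideal.height_le_one_of_isPrincipal_of_mem_minimalPrimes _ _ hq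
        have h2 := Ideal.height_strict_mono_of_isPrime hb
        have h3 := Ideal.height_strict_mono_of_isPrime hlt
        have h4 : (1 : ℕ∞) < q.height := lt_of_le_of_lt (Order.one_le_iff_pos.mpr (lt_of_le_of_lt zero_le h2)) h3
        exact absurd h1 (not_le.mpr h4)
  obtain ⟨q₀, hq₀, hle⟩ := (Ideal.subset_union_prime_finite hM (f := id) ⊥ ⊥
    (fun i hi _ _ => hi.1.isPrime)).mp hcov
  have hmin : m' ∈ (Ideal.span {π t}).minimalPrimes := by
    rw [le_antisymm hle hq₀.2]; exact hq₀.1
  intro q hq hQq hqm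
  haveI := hq
  have hkq : RingHom.ker π ≤ q := by rw [Ideal.mk_ker]; exact hQq.le
  haveI : (q.map π).IsPrime := Ideal.map_isPrime_of_surjective hπ hkq
  have hcq : (q.map π).comap π = q := by
    rw [Ideal.comap_map_of_surjective π hπ, ← RingHom.ker_eq_comap_bot, sup_eq_left]; exact hkq
  have hne : q.map π ≠ ⊥ := fun h => hQq.ne (by rw [← hcq, h, ← RingHom.ker_eq_comap_bot, Ideal.mk_ker])
  have := hmin.2 ⟨‹_›, (Ideal.span_singleton_le_iff_mem _).mpr (hbig _ ‹_› (Ideal.map_mono hqm) hne)⟩
    (Ideal.map_mono hqm)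
  refine le_antisymm hqm ?_
  rw [← hcm, ← hcq]
  exact Ideal.comap_mono this

/-- Finiteness of the integral closure after inverting one element outside `m`. -/
theorem exists_finite_integralClosure {R D : Type u} [CommRing R] [IsNoetherianRing R]
    (hR : CAlg.IsNagata R) [CommRing D] [IsDomain D] [Algebra R D] [Algebra.FiniteType R D]
    (m : Ideal D) [m.IsMaximal]
    (h : (∀ j ∈ m.comap (algebraMap R D), algebraMap R D j = 0) ∨
      ∀ q : Ideal D, q.IsPrime → q ≤ m → q.comap (algebraMap R D) = m.comap (algebraMap R D) → q = m) :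
    ∃ r : D, r ∉ m ∧ ∀ (Dr : Type u) [CommRing Dr] [Algebra D Dr] [IsLocalization.Away r Dr]
      (L : Type u) [Field L] [Algebra D L] [IsFractionRing D L] [Algebra Dr L] [IsScalarTower D Dr L],
      Module.Finite Dr (integralClosure Dr L) := by
  classical
  let w := m.comap (algebraMap R D)
  haveI : w.IsPrime := Ideal.comap_isPrime _ _
  rcases h with hA | hB
  · obtain ⟨a, haw, ha⟩ : ∃ a : R, a ∉ w ∧ ∀ b : R, b ∉ w → ∃ (n : ℕ) (c : R), a ^ n - c * b ∈ w := by
      haveI : Algebra.FinitePresentation R D :=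
        Algebra.FinitePresentation.of_finiteType.mp ‹_›
      have hc : Topology.IsConstructible ({⟨w, inferInstance⟩} : Set (PrimeSpectrum R)) := by
        have h1 := PrimeSpectrum.isConstructible_comap_image (f := algebraMap R D)
          (RingHom.finitePresentation_algebraMap.mpr ‹_›)
          (s := {⟨m, inferInstance⟩}) ?_
        · rwa [Set.image_singleton] at h1
        · rw [show ({⟨m, inferInstance⟩} : Set (PrimeSpectrum D)) = PrimeSpectrum.zeroLocus (m : Set D) from ?_]
          · haveI := Algebra.FiniteType.isNoetherianRing R D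
            obtain ⟨G, hG⟩ := IsNoetherian.noetherian (m : Ideal D)
            rw [← hG, PrimeSpectrum.zeroLocus_span, ← Topology.isConstructible_compl]
            exact (PrimeSpectrum.isRetrocompact_zeroLocus_compl G.finite_toSet).isConstructible
              (PrimeSpectrum.isClosed_zeroLocus _).isOpen_compl
          · ext q
            refine ⟨fun h => h ▸ Set.Subset.rfl, fun h => PrimeSpectrum.ext ?_⟩
            exact ((‹m.IsMaximal›).eq_of_le q.isPrime.ne_top h).symm
      obtain ⟨S, hS⟩ := PrimeSpectrum.exists_constructibleSetData_iff.mpr hc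
      have hmem : (⟨w, inferInstance⟩ : PrimeSpectrum R) ∈ S.toSet := by rw [hS]; rfl
      obtain ⟨C, hCS, hC⟩ := Set.mem_iUnion₂.mp hmem
      refine ⟨C.f, fun hf => hC.2 (by simpa using hf), fun b hb => ?_⟩
      have hrad : C.f ∈ (w ⊔ Ideal.span {b}).radical := by
        rw [Ideal.radical_eq_sInf, Submodule.mem_sInf]
        rintro P ⟨hle, hP⟩
        by_contra hf
        have hmemP : (⟨P, hP⟩ : PrimeSpectrum R) ∈ S.toSet :=
          Set.mem_iUnion₂.mpr ⟨C, hCS, fun x hx => hle (Ideal.mem_sup_left (hC.1 hx)),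
            fun hz => hf (hz (Set.mem_singleton _))⟩
        rw [hS, Set.mem_singleton_iff] at hmemP
        have hPw : P = w := congrArg PrimeSpectrum.asIdeal hmemP
        exact hb (hPw ▸ hle (Ideal.mem_sup_right (Ideal.mem_span_singleton_self b)))
      obtain ⟨n, hn⟩ := hrad
      obtain ⟨x, hx, y, hy, hxy⟩ := Submodule.mem_sup.mp hn
      obtain ⟨c, rfl⟩ := Ideal.mem_span_singleton'.mp hy
      exact ⟨n, c, by rw [← hxy]; simpa using hx⟩
    refine ⟨algebraMap R D a, haw, ?_⟩
    intro Dr _ _ _ L _ _ _ _ _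
    letI : Algebra R Dr := ((algebraMap D Dr).comp (algebraMap R D)).toAlgebra
    haveI : IsScalarTower R D Dr := IsScalarTower.of_algebraMap_eq fun _ => rfl
    have hu : w.primeCompl ≤ (IsUnit.submonoid Dr).comap (algebraMap R Dr) := by
      intro b hb
      obtain ⟨n, c, hnc⟩ := ha b hb
      have h0 := hA _ hnc
      rw [map_sub, sub_eq_zero, map_mul, map_pow] at h0
      have h1 : IsUnit (algebraMap D Dr (algebraMap R D a ^ n)) := by
        rw [map_pow]; exact (IsLocalization.Away.algebraMap_isUnit _).pow n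
      rw [h0, map_mul] at h1
      exact (IsUnit.mul_iff.mp h1).2
    have hk0 : w ≤ RingHom.ker (algebraMap R Dr) := fun j hj => by
      show algebraMap D Dr (algebraMap R D j) = 0
      rw [hA j hj, map_zero]
    letI : Algebra w.ResidueField Dr := (Ideal.ResidueField.lift w (algebraMap R Dr) hk0 hu).toAlgebra
    haveI : IsScalarTower R w.ResidueField Dr := IsScalarTower.of_algebraMap_eq fun r =>
      (Ideal.ResidueField.lift_algebraMap _ _ _ hu r).symm
    haveI : Algebra.FiniteType D Dr := IsLocalization.finiteType_of_monoid_fg (Submonoid.powers (algebraMap R D a)) Dr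
    haveI : Algebra.FiniteType R Dr := Algebra.FiniteType.trans ‹Algebra.FiniteType R D› ‹_›
    haveI : Algebra.FiniteType w.ResidueField Dr := Algebra.FiniteType.of_restrictScalars_finiteType R _ _
    have hr0 : Submonoid.powers (algebraMap R D a) ≤ nonZeroDivisors D := by
      refine powers_le_nonZeroDivisors_of_noZeroDivisors fun h0 => haw ?_
      show algebraMap R D a ∈ m
      rw [h0]; exact m.zero_mem
    haveI : IsDomain Dr := IsLocalization.isDomain_of_le_nonZeroDivisors _ hr0
    haveI : IsFractionRing Dr L := IsFractionRing.isFractionRing_of_isDomain_of_isLocalization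
      (Submonoid.powers (algebraMap R D a)) Dr L
    exact FinIntClosure.finite_integralClosure w.ResidueField Dr L L
  · have hQF : Algebra.QuasiFiniteAt R m := by
      haveI := Algebra.FiniteType.isNoetherianRing R D
      refine Algebra.QuasiFiniteAt.of_isOpen_singleton_fiber (R := R) ⟨m, inferInstance⟩ ?_
      let others := {q | q ∈ (Ideal.map (algebraMap R D) w).minimalPrimes ∧ q ≠ m}
      have hfin : others.Finite := (Ideal.finite_minimalPrimes_of_isNoetherianRing D _).subset fun q hq => hq.1
      have hnle : ¬ hfin.toFinset.inf id ≤ m := fun hle => by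
        obtain ⟨q, hq, hqm⟩ := (Ideal.IsPrime.inf_le' ‹m.IsMaximal›.isPrime).mp hle
        obtain ⟨hq1, hqne⟩ := hfin.mem_toFinset.mp hq
        exact hqne (‹m.IsMaximal›.eq_of_le hq1.isPrime.ne_top (hB q hq1.isPrime hqm
          (le_antisymm (fun x hx => hqm hx) (Ideal.map_le_iff_le_comap.mp hq1.le))).ge).symm
      obtain ⟨g, hg, hgm⟩ := SetLike.not_le_iff_exists.mp hnle
      refine isOpen_induced_iff.mpr ⟨(PrimeSpectrum.basicOpen g : Set (PrimeSpectrum D)), (PrimeSpectrum.basicOpen g).2, ?_⟩
      ext ⟨P, hP⟩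
      simp only [Set.mem_preimage, Set.mem_singleton_iff, Subtype.mk.injEq]
      refine ⟨fun hgP => ?_, fun h => h ▸ hgm⟩
      have hle : Ideal.map (algebraMap R D) w ≤ P.asIdeal := by
        rw [Ideal.map_le_iff_le_comap]
        exact (congrArg PrimeSpectrum.asIdeal hP).ge
      obtain ⟨q, hq, hqP⟩ := Ideal.exists_minimalPrimes_le hle
      by_cases hqm : q = m
      · exact PrimeSpectrum.ext (‹m.IsMaximal›.eq_of_le P.isPrime.ne_top (hqm ▸ hqP)).symm
      · exact absurd (hqP ((Finset.inf_le (f := id) (hfin.mem_toFinset.mpr ⟨hq, hqm⟩)) hg)) hgP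
    obtain ⟨r, hrm, hrint, hr⟩ := Algebra.zariskisMainProperty_iff.mp
      (Algebra.ZariskisMainProperty.of_finiteType (R := R) m)
    refine ⟨r, hrm, ?_⟩
    intro Dr _ _ _ L _ _ _ _ _
    have hr0 : r ≠ 0 := fun h0 => hrm (h0 ▸ m.zero_mem)
    letI : Algebra R L := ((algebraMap D L).comp (algebraMap R D)).toAlgebra
    haveI : IsScalarTower R D L := IsScalarTower.of_algebraMap_eq fun _ => rfl
    let p : Ideal R := RingHom.ker (algebraMap R L)
    haveI : p.IsPrime := RingHom.ker_isPrime _
    letI : Algebra (R ⧸ p) L := (Ideal.Quotient.lift p (algebraMap R L) fun _ h => h).toAlgebra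
    haveI : IsScalarTower R (R ⧸ p) L := IsScalarTower.of_algebraMap_eq fun _ => rfl
    have hinj : Function.Injective (algebraMap (R ⧸ p) L) := RingHom.kerLift_injective _
    haveI : FaithfulSMul (R ⧸ p) L := (faithfulSMul_iff_algebraMap_injective _ _).mpr hinj
    let K := FractionRing (R ⧸ p)
    letI : Algebra K L := FractionRing.liftAlgebra _ _
    haveI : IsScalarTower (R ⧸ p) K L := FractionRing.isScalarTower_liftAlgebra _ _
    haveI : IsScalarTower R K L := IsScalarTower.of_algebraMap_eq fun x => by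
      rw [IsScalarTower.algebraMap_apply R (R ⧸ p) L, IsScalarTower.algebraMap_apply R (R ⧸ p) K,
        IsScalarTower.algebraMap_apply (R ⧸ p) K L]
    have halg : ∀ x : D, IsIntegral K (algebraMap D L x) := by
      intro x
      obtain ⟨k, hk⟩ := hr x
      have h1 : IsIntegral K (algebraMap D L (r ^ k * x)) := (hk.map (IsScalarTower.toAlgHom R D L)).tower_top
      have h2 : IsIntegral K (algebraMap D L r) := (hrint.map (IsScalarTower.toAlgHom R D L)).tower_top
      have hne : algebraMap D L r ^ k ≠ 0 :=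
        pow_ne_zero _ fun h => hr0 (IsFractionRing.injective D L (h.trans (map_zero _).symm))
      have h3 : IsIntegral K (algebraMap D L r ^ k)⁻¹ := (h2.pow k).inv
      have := h3.mul h1
      rwa [map_mul, map_pow, inv_mul_cancel_left₀ hne] at this
    haveI : FiniteDimensional K L := by
      obtain ⟨G, hG⟩ := (‹Algebra.FiniteType R D›).out
      let E : IntermediateField K L := IntermediateField.adjoin K (algebraMap D L '' (G : Set D))
      haveI : Finite (algebraMap D L '' (G : Set D)) := (G.finite_toSet.image _).to_subtype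
      haveI : FiniteDimensional K E := IntermediateField.finiteDimensional_adjoin fun y hy => by
        obtain ⟨x, -, rfl⟩ := hy; exact halg x
      have hD : ∀ x : D, algebraMap D L x ∈ E := by
        intro x
        have hx : x ∈ Algebra.adjoin R (G : Set D) := hG ▸ Algebra.mem_top
        induction hx using Algebra.adjoin_induction with
        | mem y hy => exact IntermediateField.subset_adjoin K _ ⟨y, hy, rfl⟩
        | algebraMap c =>
          rw [← IsScalarTower.algebraMap_apply, IsScalarTower.algebraMap_apply R K L]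
          exact E.algebraMap_mem _
        | add _ _ _ _ h1 h2 => rw [map_add]; exact add_mem h1 h2
        | mul _ _ _ _ h1 h2 => rw [map_mul]; exact mul_mem h1 h2
      have hE : E = ⊤ := top_le_iff.mp fun z _ => by
        obtain ⟨x, y, -, rfl⟩ := IsFractionRing.div_surjective D z
        exact div_mem (hD x) (hD y)
      exact LinearEquiv.finiteDimensional ((IntermediateField.equivOfEq hE).trans IntermediateField.topEquiv).toLinearEquiv
    obtain ⟨G, hG⟩ := (N2Lib.finite_iff_fg L).mp (N2Lib.finite_of_isN2 (hR.2 p) K L)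
    have hDr : ∀ x : Dr, ∃ k : ℕ, ∀ n ≥ k, IsIntegral R (algebraMap D L r ^ n * algebraMap Dr L x) := by
      intro x
      obtain ⟨l, y, hy⟩ := IsLocalization.Away.surj r x
      obtain ⟨k, hk⟩ := hr y
      refine ⟨k + l, fun n hn => ?_⟩
      obtain ⟨d, rfl⟩ := Nat.exists_eq_add_of_le hn
      have h1 : IsIntegral R (algebraMap D L (r ^ d * (r ^ k * y))) :=
        ((hrint.pow d).mul hk).map (IsScalarTower.toAlgHom R D L)
      have h2 : algebraMap Dr L x * algebraMap D L r ^ l = algebraMap D L y := by
        rw [← map_pow, IsScalarTower.algebraMap_apply D Dr L, ← map_mul, map_pow, hy,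
          ← IsScalarTower.algebraMap_apply]
      rw [map_mul, map_mul, map_pow, map_pow, ← h2] at h1
      rw [pow_add, pow_add]
      convert h1 using 1
      ring
    have hz : ∀ z : L, IsIntegral Dr z → ∃ n : ℕ, IsIntegral R (algebraMap D L r ^ n * z) := by
      intro z hz
      obtain ⟨P, hPm, hP⟩ := hz
      choose kc hkc using fun i => hDr (P.coeff i)
      let n := (Finset.range P.natDegree).sup kc
      refine ⟨n, ?_⟩
      let q := (P.map (algebraMap Dr L)).scaleRoots (algebraMap D L r ^ n)
      let T := integralClosure R L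
      have hqm : q.Monic := (Polynomial.monic_scaleRoots_iff _).mpr (hPm.map _)
      have hlift : q ∈ Polynomial.lifts (algebraMap T L) := by
        rw [Polynomial.lifts_iff_coeff_lifts]
        intro i
        rw [Polynomial.coeff_scaleRoots, Polynomial.coeff_map, (hPm).natDegree_map, ← pow_mul]
        refine ⟨⟨_, ?_⟩, rfl⟩
        rcases lt_trichotomy i P.natDegree with hi | rfl | hi
        · show IsIntegral R _
          convert hkc i _ (le_trans (Finset.le_sup (Finset.mem_range.mpr hi))
            (Nat.le_mul_of_pos_right _ (Nat.sub_pos_of_lt hi))) using 1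
          exact mul_comm _ _
        · rw [hPm.coeff_natDegree, map_one, Nat.sub_self]
          simp only [mul_zero, pow_zero]
          show IsIntegral R ((1 : L) * 1)
          rw [mul_one]
          exact isIntegral_one
        · rw [Polynomial.coeff_eq_zero_of_natDegree_lt hi, map_zero]
          show IsIntegral R ((0 : L) * _)
          rw [zero_mul]
          exact isIntegral_zero
      obtain ⟨q', hq', -, hq'm⟩ := Polynomial.lifts_and_degree_eq_and_monic hlift hqm
      have hint : IsIntegral T (algebraMap D L r ^ n * z) := by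
        refine ⟨q', hq'm, ?_⟩
        rw [← Polynomial.eval_map, hq', ← Polynomial.coe_aeval_eq_eval]
        exact Polynomial.scaleRoots_aeval_eq_zero (A := L) (by
          rw [Polynomial.coe_aeval_eq_eval, Polynomial.eval_map]; exact hP)
      exact isIntegral_trans _ hint
    refine (N2Lib.finite_iff_fg L).mpr ⟨G, le_antisymm (Submodule.span_le.mpr fun g hg => ?_) fun z hzz => ?_⟩
    · obtain ⟨g0, hg0⟩ : ∃ h : IsIntegral (R ⧸ p) g, True :=
        ⟨(hG ▸ Submodule.subset_span hg : g ∈ Subalgebra.toSubmodule (integralClosure (R ⧸ p) L)), trivial⟩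
      have h1 : IsIntegral R g := isIntegral_trans g g0
      letI : Algebra R Dr := ((algebraMap D Dr).comp (algebraMap R D)).toAlgebra
      haveI : IsScalarTower R Dr L := IsScalarTower.of_algebraMap_eq fun c => by
        rw [RingHom.algebraMap_toAlgebra (R := R) (S := Dr), RingHom.comp_apply,
          ← IsScalarTower.algebraMap_apply, ← IsScalarTower.algebraMap_apply]
      exact h1.tower_top
    · obtain ⟨n, hn⟩ := hz z hzz
      have h1 : algebraMap D L r ^ n * z ∈ Submodule.span (R ⧸ p) (G : Set L) := by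
        rw [hG]; exact hn.tower_top
      letI : Algebra (R ⧸ p) Dr := (Ideal.Quotient.lift p ((algebraMap D Dr).comp (algebraMap R D)) fun c hc => by
        have : algebraMap R D c = 0 := IsFractionRing.injective D L ((RingHom.mem_ker.mp hc).trans (map_zero _).symm)
        rw [RingHom.comp_apply, this, map_zero]).toAlgebra
      haveI : IsScalarTower (R ⧸ p) Dr L := IsScalarTower.of_algebraMap_eq fun c => by
        obtain ⟨c, rfl⟩ := Ideal.Quotient.mk_surjective c
        show algebraMap D L (algebraMap R D c) = algebraMap Dr L (algebraMap D Dr (algebraMap R D c))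
        exact IsScalarTower.algebraMap_apply D Dr L _
      have h2 : algebraMap D L r ^ n * z ∈ Submodule.span Dr (G : Set L) :=
        Submodule.span_le_restrictScalars (R ⧸ p) Dr _ h1
      obtain ⟨u, hu⟩ := ((IsLocalization.Away.algebraMap_isUnit (S := Dr) r).pow n).exists_left_inv
      have h3 := Submodule.smul_mem _ u h2
      rwa [Algebra.smul_def, ← mul_assoc, IsScalarTower.algebraMap_apply D Dr L, ← map_pow, ← map_mul,
        hu, map_one, one_mul] at h3

/-- A normal test curve through `m` not contained in `V(s)`. -/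
theorem exists_curve {R B : Type u} [CommRing R] [IsNoetherianRing R] (hR : CAlg.IsNagata R)
    [CommRing B] [IsDomain B] [Algebra R B] [Algebra.FiniteType R B]
    (m : Ideal B) [m.IsMaximal] (s : B) (hs : s ≠ 0) (hsm : s ∈ m) :
    ∃ (C : Type u) (_ : CommRing C) (_ : IsDomain C) (_ : Algebra R C) (φ : B →ₐ[R] C) (c : Ideal C),
      Algebra.FiniteType R C ∧ IsIntegrallyClosed C ∧ c.IsMaximal ∧ c.comap φ.toRingHom = m ∧
      φ s ≠ 0 ∧ (∀ q : Ideal C, q.IsPrime → φ s ∈ q → q = c) ∧ φ s ∈ c ∧ c.height = 1 := by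
  classical
  haveI := Algebra.FiniteType.isNoetherianRing R B
  let w := m.comap (algebraMap R B)
  obtain ⟨t, ht0, htm, hts, hcase⟩ : ∃ t : B, t ≠ 0 ∧ t ∈ m ∧ s ∣ t ∧
      ((∀ j ∈ w, algebraMap R B j = 0) ∨ ∃ j ∈ w, algebraMap R B j ∣ t) := by
    by_cases h : ∀ j ∈ w, algebraMap R B j = 0
    · exact ⟨s, hs, hsm, dvd_rfl, Or.inl h⟩
    · push Not at h
      obtain ⟨j, hj, hj0⟩ := h
      exact ⟨s * algebraMap R B j, mul_ne_zero hs hj0, m.mul_mem_right _ hsm, dvd_mul_right _ _,
        Or.inr ⟨j, hj, dvd_mul_left _ _⟩⟩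
  obtain ⟨Q, hQ, hQm, htQ, hQmax⟩ := exists_prime_dim_one m t ht0 htm
  haveI := hQ
  let D := B ⧸ Q
  let π := Ideal.Quotient.mkₐ R Q
  have hπ : Function.Surjective π := Ideal.Quotient.mk_surjective
  have hker : RingHom.ker (Ideal.Quotient.mk Q) ≤ m := by rw [Ideal.mk_ker]; exact hQm
  let md : Ideal D := m.map (Ideal.Quotient.mk Q)
  haveI : md.IsMaximal := (Ideal.map_eq_top_or_isMaximal_of_surjective _ Ideal.Quotient.mk_surjective ‹m.IsMaximal›).resolve_left
    fun h => by
      have := congrArg (Ideal.comap (Ideal.Quotient.mk Q)) h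
      rw [Ideal.comap_map_of_surjective _ Ideal.Quotient.mk_surjective, ← RingHom.ker_eq_comap_bot,
        sup_eq_left.mpr hker, Ideal.comap_top] at this
      exact ‹m.IsMaximal›.ne_top this
  have hcm : md.comap (Ideal.Quotient.mk Q) = m := by
    rw [Ideal.comap_map_of_surjective _ Ideal.Quotient.mk_surjective, ← RingHom.ker_eq_comap_bot, sup_eq_left]
    exact hker
  have hw' : md.comap (algebraMap R D) = w := by
    show md.comap ((Ideal.Quotient.mk Q).comp (algebraMap R B)) = w
    rw [← Ideal.comap_comap, hcm]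
  haveI : Algebra.FiniteType R D := Algebra.FiniteType.of_surjective π hπ
  have hsQ : s ∉ Q := fun h => htQ (by obtain ⟨u, rfl⟩ := hts; exact Q.mul_mem_right u h)
  have hdim : ∀ q : Ideal D, q.IsPrime → q ≤ md → q ≠ md → q = ⊥ := by
    intro q hq hqm hne
    by_contra hb
    have h1 : Q < q.comap (Ideal.Quotient.mk Q) := lt_of_le_of_ne
      (fun x hx => by rw [Ideal.mem_comap, Ideal.Quotient.eq_zero_iff_mem.mpr hx]; exact q.zero_mem)
      (fun e => hb (by rw [← Ideal.map_comap_of_surjective _ Ideal.Quotient.mk_surjective q, ← e, Ideal.map_quotient_self]))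
    have h2 := hQmax _ (Ideal.comap_isPrime _ q) h1 (hcm ▸ Ideal.comap_mono hqm)
    exact hne (by rw [← Ideal.map_comap_of_surjective _ Ideal.Quotient.mk_surjective q, h2])
  obtain ⟨r, hrm, hfin⟩ := exists_finite_integralClosure hR md (by
    rw [hw']
    rcases hcase with h | ⟨j, hj, hjt⟩
    · exact Or.inl fun x hx => by
        show Ideal.Quotient.mk Q (algebraMap R B x) = 0
        rw [h x hx, map_zero]
    · refine Or.inr fun q hq hqm hqw => ?_
      by_contra hne
      have h0 := hdim q hq hqm hne
      have hjq : algebraMap R D j ∈ q := hqw.ge hj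
      rw [h0, Ideal.mem_bot] at hjq
      refine htQ ?_
      obtain ⟨u, rfl⟩ := hjt
      exact Q.mul_mem_right u (Ideal.Quotient.eq_zero_iff_mem.mp hjq))
  let L := FractionRing D
  let Dr := Localization.Away r
  have hr0 : r ≠ 0 := fun h => hrm (h ▸ md.zero_mem)
  have hpow : Submonoid.powers r ≤ nonZeroDivisors D := powers_le_nonZeroDivisors_of_noZeroDivisors hr0
  haveI : IsDomain Dr := IsLocalization.isDomain_localization hpow
  letI : Algebra Dr L := (IsLocalization.Away.lift r (g := algebraMap D L)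
    (isUnit_iff_ne_zero.mpr fun h => hr0 (IsFractionRing.injective D L (h.trans (map_zero _).symm)))).toAlgebra
  haveI : IsScalarTower D Dr L := IsScalarTower.of_algebraMap_eq fun x => by
    rw [RingHom.algebraMap_toAlgebra, IsLocalization.Away.lift_eq]
  haveI : IsFractionRing Dr L := IsFractionRing.isFractionRing_of_isDomain_of_isLocalization (Submonoid.powers r) Dr L
  haveI : Module.Finite Dr (integralClosure Dr L) := hfin Dr L
  let C₀ := integralClosure Dr L
  haveI : IsIntegrallyClosed C₀ := integralClosure.isIntegrallyClosedOfFiniteExtension L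
  haveI : Algebra.IsIntegral Dr C₀ := inferInstance
  let md' : Ideal Dr := md.map (algebraMap D Dr)
  have hdisj : Disjoint (Submonoid.powers r : Set D) (md : Set D) := Set.disjoint_left.mpr fun x hx hxm => by
    obtain ⟨k, rfl⟩ := hx
    exact hrm (‹md.IsMaximal›.isPrime.mem_of_pow_mem k hxm)
  have hcm' : md'.comap (algebraMap D Dr) = md :=
    IsLocalization.under_map_of_isPrime_disjoint (Submonoid.powers r) Dr ‹md.IsMaximal›.isPrime hdisj
  have hmap : ∀ M : Ideal Dr, (M.comap (algebraMap D Dr)).map (algebraMap D Dr) = M := fun M =>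
    IsLocalization.map_under (Submonoid.powers r) Dr M
  haveI : md'.IsMaximal := by
    refine Ideal.isMaximal_iff.mpr ⟨fun h => ?_, fun M x hle hx hxM => ?_⟩
    · rw [← Ideal.eq_top_iff_one] at h
      rw [h, Ideal.comap_top] at hcm'
      exact ‹md.IsMaximal›.ne_top hcm'.symm
    · by_contra hM
      rw [← Ideal.eq_top_iff_one] at hM
      have h1 : M.comap (algebraMap D Dr) = md := (‹md.IsMaximal›.eq_of_le
        (fun h => hM (by rw [← hmap M, h, Ideal.map_top]))
        (hcm' ▸ Ideal.comap_mono hle)).symm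
      refine hx ?_
      rw [← hmap M, h1] at hxM
      exact hxM
  obtain ⟨c₀, hc₀, hc₀over⟩ := Ideal.exists_ideal_over_maximal_of_isIntegral (S := C₀) md' (by
    rw [(RingHom.injective_iff_ker_eq_bot _).mp
      (fun a b h => IsFractionRing.injective Dr L (congrArg Subtype.val h))]
    exact bot_le)
  let β : D →+* C₀ := (algebraMap Dr C₀).comp (algebraMap D Dr)
  have hβinj : Function.Injective β := fun a b h => IsFractionRing.injective D L (by
    rw [IsScalarTower.algebraMap_apply D Dr L, IsScalarTower.algebraMap_apply D Dr L b]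
    exact congrArg Subtype.val h)
  have hβc : c₀.comap β = md := by rw [← Ideal.comap_comap, hc₀over, hcm']
  let σ : C₀ := β (Ideal.Quotient.mk Q s)
  have hσ0 : σ ≠ 0 := fun h => hsQ (Ideal.Quotient.eq_zero_iff_mem.mp (hβinj (h.trans (map_zero β).symm)))
  have hσc : σ ∈ c₀ := by
    show Ideal.Quotient.mk Q s ∈ c₀.comap β
    rw [hβc]; exact Ideal.mem_map_of_mem _ hsm
  haveI := hc₀.isPrime
  haveI : IsScalarTower R D Dr := inferInstance
  letI : Algebra R C₀ := ((algebraMap Dr C₀).comp (algebraMap R Dr)).toAlgebra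
  haveI : IsScalarTower R Dr C₀ := IsScalarTower.of_algebraMap_eq fun _ => rfl
  haveI : Algebra.FiniteType D Dr := IsLocalization.finiteType_of_monoid_fg (Submonoid.powers r) Dr
  haveI : Algebra.FiniteType R Dr := Algebra.FiniteType.trans ‹Algebra.FiniteType R D› ‹_›
  haveI : Algebra.FiniteType R C₀ := Algebra.FiniteType.trans ‹Algebra.FiniteType R Dr› inferInstance
  haveI := Algebra.FiniteType.isNoetherianRing R C₀
  let others := {q | q ∈ (Ideal.span {σ}).minimalPrimes ∧ q ≠ c₀}
  have hfin' : others.Finite := (Ideal.finite_minimalPrimes_of_isNoetherianRing C₀ _).subset fun q hq => hq.1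
  have hminc : ∀ q : Ideal C₀, q.IsPrime → σ ∈ q → q ≤ c₀ → q = c₀ := by
    intro q hq hσq hqc
    have h1 : q.comap β ≤ md := hβc ▸ Ideal.comap_mono hqc
    have h2 : q.comap β = md := by
      by_contra hne
      have := hdim _ (Ideal.comap_isPrime β q) h1 hne
      have h3 : Ideal.Quotient.mk Q s ∈ q.comap β := hσq
      rw [this, Ideal.mem_bot] at h3
      exact hsQ (Ideal.Quotient.eq_zero_iff_mem.mp h3)
    have h4 : q.comap (algebraMap Dr C₀) = md' := by
      rw [← hmap (q.comap (algebraMap Dr C₀)), Ideal.comap_comap]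
      exact congrArg (Ideal.map (algebraMap D Dr)) h2
    haveI : (q.comap (algebraMap Dr C₀)).IsMaximal := h4 ▸ inferInstance
    haveI : q.IsMaximal := Ideal.isMaximal_of_isIntegral_of_isMaximal_comap (R := Dr) q inferInstance
    exact ‹q.IsMaximal›.eq_of_le hc₀.ne_top hqc
  have hnle : ¬ hfin'.toFinset.inf id ≤ c₀ := fun hle => by
    obtain ⟨q, hq, hqm⟩ := (Ideal.IsPrime.inf_le' hc₀.isPrime).mp hle
    obtain ⟨hq1, hqne⟩ := hfin'.mem_toFinset.mp hq
    exact hqne (hminc q hq1.isPrime ((Ideal.span_singleton_le_iff_mem q).mp hq1.le) hqm)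
  obtain ⟨g, hg, hgc⟩ := SetLike.not_le_iff_exists.mp hnle
  have hg0 : g ≠ 0 := fun h => hgc (h ▸ c₀.zero_mem)
  have hpg : Submonoid.powers g ≤ nonZeroDivisors C₀ := powers_le_nonZeroDivisors_of_noZeroDivisors hg0
  let C := Localization.Away g
  haveI : IsDomain C := IsLocalization.isDomain_localization hpg
  have hmapg : ∀ M : Ideal C, (M.comap (algebraMap C₀ C)).map (algebraMap C₀ C) = M := fun M =>
    IsLocalization.map_under (Submonoid.powers g) C M
  have hdg : Disjoint (Submonoid.powers g : Set C₀) (c₀ : Set C₀) := Set.disjoint_left.mpr fun x hx hxm => by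
    obtain ⟨k, rfl⟩ := hx
    exact hgc (hc₀.isPrime.mem_of_pow_mem k hxm)
  let c : Ideal C := c₀.map (algebraMap C₀ C)
  have hcc : c.comap (algebraMap C₀ C) = c₀ :=
    IsLocalization.under_map_of_isPrime_disjoint (Submonoid.powers g) C hc₀.isPrime hdg
  haveI hcp : c.IsPrime := IsLocalization.isPrime_of_isPrime_disjoint (Submonoid.powers g) C c₀ hc₀.isPrime hdg
  have hcmax : c.IsMaximal := by
    obtain ⟨M, hM, hle⟩ := Ideal.exists_le_maximal c hcp.ne_top
    have h1 : M.comap (algebraMap C₀ C) = c₀ :=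
      (hc₀.eq_of_le (Ideal.comap_ne_top _ hM.ne_top) (hcc ▸ Ideal.comap_mono hle)).symm
    have h2 : M = c := by
      rw [← hmapg M, h1]
    rwa [h2] at hM
  let φ : B →ₐ[R] C :=
    { toRingHom := ((algebraMap C₀ C).comp β).comp (Ideal.Quotient.mk Q)
      commutes' := fun x => by
        show algebraMap C₀ C (β (Ideal.Quotient.mk Q (algebraMap R B x))) = algebraMap R C x
        rw [IsScalarTower.algebraMap_apply R C₀ C]; rfl }
  have hinjg : Function.Injective (algebraMap C₀ C) := IsLocalization.injective C hpg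
  have hφ0 : φ s ≠ 0 := fun h => hσ0 (hinjg (h.trans (map_zero _).symm))
  have honly : ∀ q : Ideal C, q.IsPrime → φ s ∈ q → q = c := by
    intro q hq hσq
    haveI := hq
    obtain ⟨q', hq', hle⟩ := Ideal.exists_minimalPrimes_le
      (show Ideal.span {σ} ≤ q.comap (algebraMap C₀ C) from (Ideal.span_singleton_le_iff_mem _).mpr hσq)
    by_cases hqc : q' = c₀
    · have h1 : q.comap (algebraMap C₀ C) = c₀ :=
        (hc₀.eq_of_le (Ideal.comap_ne_top _ hq.ne_top) (hqc ▸ hle)).symm
      rw [← hmapg q, h1]
    · exfalso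
      have h1 : g ∈ q.comap (algebraMap C₀ C) :=
        hle ((Finset.inf_le (f := id) (hfin'.mem_toFinset.mpr ⟨hq', hqc⟩)) hg)
      exact hq.ne_top (q.eq_top_of_isUnit_mem h1 (IsLocalization.Away.algebraMap_isUnit g))
  have hφc : φ s ∈ c := Ideal.mem_map_of_mem _ hσc
  haveI : Algebra.FiniteType C₀ C := IsLocalization.finiteType_of_monoid_fg (Submonoid.powers g) C
  haveI hftC : Algebra.FiniteType R C := Algebra.FiniteType.trans ‹Algebra.FiniteType R C₀› ‹_›
  haveI := Algebra.FiniteType.isNoetherianRing R C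
  refine ⟨C, inferInstance, inferInstance, inferInstance, φ, c, hftC,
    isIntegrallyClosed_of_isLocalization _ _ hpg, hcmax, ?_, hφ0, honly, hφc, le_antisymm ?_ ?_⟩
  · show c.comap (((algebraMap C₀ C).comp β).comp (Ideal.Quotient.mk Q)) = m
    rw [← Ideal.comap_comap, ← Ideal.comap_comap, hcc, hβc, hcm]
  · exact Ideal.height_le_one_of_isPrincipal_of_mem_minimalPrimes (Ideal.span {φ s}) _
      ⟨⟨hcp, (Ideal.span_singleton_le_iff_mem c).mpr hφc⟩,
        fun q hq _ => (honly q hq.1 ((Ideal.span_singleton_le_iff_mem q).mp hq.2)).ge⟩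
  · have hb : (⊥ : Ideal C) < c := bot_lt_iff_ne_bot.mpr fun h => hφ0 ((Ideal.mem_bot).mp (h ▸ hφc))
    exact Order.one_le_iff_pos.mpr (lt_of_le_of_lt zero_le (Ideal.height_strict_mono_of_isPrime hb))

end Groth.Agent.CurveTest
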