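import Mathlib
import Groth.Agent.CurveTest.Ring
import Groth.Agent.DVRCrit.Scheme
import Groth.Agent.DVRCrit.Centre
import Groth.Agent.SpreadOut.Components
import Groth.Agent.ConstrNoeth.Basic

set_option autoImplicit false
set_option linter.style.haveILetI false

/-! # Closedness of images from normal test curves over a Nagata base -/

universe u

open CategoryTheory CategoryTheory.Limits AlgebraicGeometry IsLocalRing TopologicalSpace

namespace Groth.Agent.CurveTest

variable {S X Y : Scheme.{u}}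

/-- Lifting for normal test curves. -/
def CurveLift (q : Y ⟶ S) (f : X ⟶ Y) : Prop :=
  ∀ (C : Scheme.{u}) (r : C ⟶ S) [IsIntegral C] [LocallyOfFiniteType r] [QuasiCompact r],
    (∀ x : C, IsIntegrallyClosed (C.presheaf.stalk x)) →
    ∀ (c : C), IsClosed ({c} : Set C) → ringKrullDim (C.presheaf.stalk c) = 1 →
    ∀ (U : C.Opens), (U : Set C) = {c}ᶜ →
    ∀ (u : (U : Scheme.{u}) ⟶ X) (g : C ⟶ Y), g ≫ q = r → u ≫ f = U.ι ≫ g →
    ∀ (k : Spec (CommRingCat.of (FractionRing (C.presheaf.stalk c))) ⟶ (U : Scheme.{u})),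
      k ≫ U.ι = Spec.map (CommRingCat.ofHom (algebraMap (C.presheaf.stalk c)
        (FractionRing (C.presheaf.stalk c)))) ≫ C.fromSpecStalk c →
    ∃ l : Spec (C.presheaf.stalk c) ⟶ X, l ≫ f = C.fromSpecStalk c ≫ g ∧
      Spec.map (CommRingCat.ofHom (algebraMap (C.presheaf.stalk c) (FractionRing (C.presheaf.stalk c)))) ≫ l =
        k ≫ u

theorem CurveLift.baseChange {q : Y ⟶ S} {f : X ⟶ Y} (H : CurveLift q f) {Y' : Scheme.{u}}
    (g₀ : Y' ⟶ Y) : CurveLift (g₀ ≫ q) (pullback.snd f g₀) := by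
  intro C r _ _ _ hn c hc hd U hU u g hg hu k hk
  obtain ⟨l, hl, hl'⟩ := H C r hn c hc hd U hU (u ≫ pullback.fst f g₀) (g ≫ g₀)
    (by rw [Category.assoc]; exact hg)
    (by rw [Category.assoc, pullback.condition, reassoc_of% hu]) k hk
  refine ⟨pullback.lift l (C.fromSpecStalk c ≫ g) (by rw [Category.assoc]; exact hl),
    pullback.lift_snd _ _ _, ?_⟩
  apply pullback.hom_ext
  · rw [Category.assoc, pullback.lift_fst, hl', Category.assoc]
  · rw [Category.assoc, pullback.lift_snd, Category.assoc, hu, reassoc_of% hk]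

theorem finiteType_appLE_of_isNoetherian (f : X ⟶ Y) [IsLocallyNoetherian Y] [LocallyOfFiniteType f] :
    LocallyOfFinitePresentation f := by
  refine ⟨fun {V} hV {U} hU e => ?_⟩
  haveI : IsNoetherianRing Γ(Y, V) := IsLocallyNoetherian.component_noetherian ⟨V, hV⟩
  exact RingHom.FinitePresentation.of_finiteType.mp (f.finiteType_appLE hV hU e)

theorem isLocallyConstructible_of_isClosed [IsLocallyNoetherian X] {Z : Set X} (hZ : IsClosed Z) :
    Topology.IsLocallyConstructible Z := by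
  intro x
  obtain ⟨_, ⟨V : X.Opens, hV, rfl⟩, hxV, -⟩ :=
    X.isBasis_affineOpens.exists_subset_of_mem_open (Set.mem_univ x) isOpen_univ
  haveI : IsAffine V.toScheme := hV
  haveI : IsLocallyNoetherian V.toScheme := LocallyOfFiniteType.isLocallyNoetherian V.ι
  haveI : AlgebraicGeometry.IsNoetherian V.toScheme := { }
  exact ⟨V, V.2.mem_nhds hxV, V.2,
    ConstrNoeth.isConstructible_of_isClosed (X := ↥V.toScheme) (hZ.preimage continuous_subtype_val)⟩

theorem compl_isLocallyConstructible {W : Type u} [TopologicalSpace W] {s : Set W}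
    (hs : Topology.IsLocallyConstructible s) : Topology.IsLocallyConstructible sᶜ := fun x =>
  have ⟨V, hV, hVo, h⟩ := hs x
  ⟨V, hV, hVo, h.compl⟩

/-- A locally closed point in the boundary of the image. -/
theorem exists_boundary_point [IsLocallyNoetherian Y] (f : X ⟶ Y) [LocallyOfFiniteType f]
    [QuasiCompact f] {Z : Set X} (hZ : IsClosed Z) {V₀ : Y.Opens} (hV₀ : IsAffineOpen V₀) {y₀ : Y}
    (hy₀ : y₀ ∈ V₀) (h1 : y₀ ∈ closure (f '' Z)) (h2 : y₀ ∉ f '' Z) :
    ∃ (V : Y.Opens) (hV : IsAffineOpen V) (y : Y) (hy : y ∈ V), V ≤ V₀ ∧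
      (hV.primeIdealOf ⟨y, hy⟩).asIdeal.IsMaximal ∧ y ∈ closure (f '' Z) ∧ y ∉ f '' Z := by
  haveI := finiteType_appLE_of_isNoetherian f
  haveI : IsLocallyNoetherian X := LocallyOfFiniteType.isLocallyNoetherian f
  haveI : IsAffine V₀.toScheme := hV₀
  have hT : Topology.IsLocallyConstructible (closure (f '' Z) \ f '' Z) :=
    (isLocallyConstructible_of_isClosed isClosed_closure).inter
      (compl_isLocallyConstructible (f.isLocallyConstructible_image (isLocallyConstructible_of_isClosed hZ)))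
  have hT' : Topology.IsConstructible (hV₀.fromSpec ⁻¹' (closure (f '' Z) \ f '' Z)) :=
    (hT.preimage_of_isOpenEmbedding hV₀.fromSpec.isOpenEmbedding).isConstructible
  obtain ⟨D, hD⟩ := PrimeSpectrum.exists_constructibleSetData_iff.mpr hT'
  have hne : (hV₀.primeIdealOf ⟨y₀, hy₀⟩ : PrimeSpectrum Γ(Y, V₀)) ∈ D.toSet := by
    rw [hD]
    show hV₀.fromSpec (hV₀.primeIdealOf ⟨y₀, hy₀⟩) ∈ closure (f '' Z) \ f '' Z
    rw [hV₀.fromSpec_primeIdealOf]
    exact ⟨h1, h2⟩
  obtain ⟨C, hC, hCy⟩ := Set.mem_iUnion₂.mp hne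
  let V := Y.basicOpen C.f
  have hV : IsAffineOpen V := hV₀.basicOpen _
  haveI := hV₀.isLocalization_basicOpen C.f
  let I : Ideal Γ(Y, V) := (Ideal.span (Set.range C.g)).map (algebraMap Γ(Y, V₀) Γ(Y, V))
  have hI : I ≠ ⊤ := by
    intro hI
    let p := (hV₀.primeIdealOf ⟨y₀, hy₀⟩).asIdeal
    have hdisj : Disjoint (Submonoid.powers C.f : Set Γ(Y, V₀)) (p : Set Γ(Y, V₀)) :=
      Set.disjoint_left.mpr fun x hx hxp => by
        obtain ⟨k, rfl⟩ := hx
        exact hCy.2 (Set.singleton_subset_iff.mpr ((hV₀.primeIdealOf ⟨y₀, hy₀⟩).isPrime.mem_of_pow_mem k hxp))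
    have hpp := IsLocalization.isPrime_of_isPrime_disjoint (Submonoid.powers C.f) Γ(Y, V) p inferInstance hdisj
    exact hpp.ne_top (top_le_iff.mp (hI ▸ Ideal.map_mono (Ideal.span_le.mpr hCy.1)))
  obtain ⟨M, hM, hIM⟩ := Ideal.exists_le_maximal I hI
  let P : PrimeSpectrum Γ(Y, V) := ⟨M, hM.isPrime⟩
  let y : Y := hV.fromSpec P
  have hy : y ∈ V := hV.range_fromSpec.le ⟨P, rfl⟩
  have hP : hV.primeIdealOf ⟨y, hy⟩ = P :=
    hV.fromSpec.isOpenEmbedding.injective (hV.fromSpec_primeIdealOf ⟨y, hy⟩)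
  have hmem : PrimeSpectrum.comap (algebraMap Γ(Y, V₀) Γ(Y, V)) P ∈ D.toSet := by
    refine Set.mem_iUnion₂.mpr ⟨C, hC, fun x hx => ?_, fun hf => ?_⟩
    · exact hIM (Ideal.mem_map_of_mem _ (Ideal.subset_span hx))
    · exact hM.ne_top (M.eq_top_of_isUnit_mem (hf (Set.mem_singleton _))
        (IsLocalization.Away.algebraMap_isUnit (S := Γ(Y, V)) C.f))
  rw [hD] at hmem
  have hy' : hV₀.fromSpec (PrimeSpectrum.comap (algebraMap Γ(Y, V₀) Γ(Y, V)) P) = y := by
    show (Spec.map (Y.presheaf.map (homOfLE (Y.basicOpen_le C.f)).op) ≫ hV₀.fromSpec) P = y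
    rw [IsAffineOpen.map_fromSpec hV₀ hV]
  have hmem' : hV₀.fromSpec (PrimeSpectrum.comap (algebraMap Γ(Y, V₀) Γ(Y, V)) P) ∈
      closure (f '' Z) \ f '' Z := hmem
  rw [hy'] at hmem'
  exact ⟨V, hV, y, hy, Y.basicOpen_le _, hP ▸ hM, hmem'.1, hmem'.2⟩

/-- The key statement: images of closed sets are closed. -/
theorem isClosedMap_of_curveLift [IsLocallyNoetherian S]
    (hS : ∀ W : S.affineOpens, CAlg.IsNagata Γ(S, W)) (q : Y ⟶ S) [LocallyOfFiniteType q]
    (f : X ⟶ Y) [LocallyOfFiniteType f] [QuasiCompact f] (H : CurveLift q f) :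
    IsClosedMap f := by
  classical
  intro Z hZ
  refine isClosed_of_closure_subset fun y₀ hy₀ => ?_
  by_contra hy₀'
  haveI : IsLocallyNoetherian Y := LocallyOfFiniteType.isLocallyNoetherian q
  obtain ⟨_, ⟨W, hW, rfl⟩, hyW, -⟩ :=
    S.isBasis_affineOpens.exists_subset_of_mem_open (Set.mem_univ (q y₀)) isOpen_univ
  obtain ⟨_, ⟨V₀, hV₀, rfl⟩, hyV₀, hV₀W⟩ :=
    Y.isBasis_affineOpens.exists_subset_of_mem_open (show y₀ ∈ q ⁻¹ᵁ W from hyW) (q ⁻¹ᵁ W).2
  obtain ⟨V, hV, y, hyV, hVV₀, hmax, hycl, hynot⟩ :=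
    exists_boundary_point f hZ hV₀ hyV₀ hy₀ hy₀'
  have hVW : V ≤ q ⁻¹ᵁ W := hVV₀.trans hV₀W
  obtain ⟨z, hzZ, hzy⟩ := SpreadOut.exists_specializes_of_mem_closure_image f hZ hycl
  have hne : y ≠ f z := fun h => hynot ⟨z, hzZ, h.symm⟩
  have hzV : f z ∈ V := hzy.mem_open V.2 hyV
  obtain ⟨_, ⟨U, hU, rfl⟩, hzU, hUV⟩ :=
    X.isBasis_affineOpens.exists_subset_of_mem_open (show z ∈ f ⁻¹ᵁ V from hzV) (f ⁻¹ᵁ V).2
  obtain ⟨A', h, hA', hh, w⟩ := DVRCrit.exists_dvr_residueField f z y hzy hne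
  obtain ⟨θ, hθ⟩ := DVRCrit.exists_factor hU (X.fromSpecResidueField z)
    (by rw [Scheme.range_fromSpecResidueField]; simpa using hzU)
  obtain ⟨χ, rfl⟩ := DVRCrit.exists_factor hV h (DVRCrit.range_subset_of_closedPoint h (hh.symm ▸ hyV))
  have hχθ : χ ≫ CommRingCat.ofHom A'.subtype = f.appLE V U hUV ≫ θ := by
    refine DVRCrit.fromSpec_inj hV ?_
    rw [Spec.map_comp_assoc, w, hθ, Spec.map_comp_assoc, Category.assoc,
      IsAffineOpen.SpecMap_appLE_fromSpec]
  algebraize [(q.appLE W V hVW).hom, (f.appLE V U hUV).hom]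
  haveI : Algebra.FiniteType Γ(S, W) Γ(Y, V) :=
    RingHom.finiteType_algebraMap.mp (q.finiteType_appLE hW hV hVW)
  haveI : Algebra.FiniteType Γ(Y, V) Γ(X, U) :=
    RingHom.finiteType_algebraMap.mp (f.finiteType_appLE hV hU hUV)
  haveI : IsNoetherianRing Γ(S, W) := IsLocallyNoetherian.component_noetherian ⟨W, hW⟩
  letI : Algebra Γ(Y, V) (X.residueField z) := (θ.hom.comp (f.appLE V U hUV).hom).toAlgebra
  let θ' : Γ(X, U) →ₐ[Γ(Y, V)] X.residueField z := { θ.hom with commutes' := fun _ => rfl }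
  have hA'alg : ∀ a : Γ(Y, V), algebraMap Γ(Y, V) (X.residueField z) a = (χ a : X.residueField z) :=
    fun a => (congrArg (fun φ : Γ(Y, V) ⟶ X.residueField z => φ a) hχθ).symm
  let A'' : Subalgebra Γ(Y, V) (X.residueField z) :=
    { A'.toSubring with algebraMap_mem' := fun a => (hA'alg a).symm ▸ (χ a).2 }
  obtain ⟨G, hG⟩ := (‹Algebra.FiniteType Γ(Y, V) Γ(X, U)›).out
  -- some generator is not in the valuation ring
  obtain ⟨b, hbG, hb⟩ : ∃ b ∈ G, θ b ∉ A' := by
    by_contra! hall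
    have hin : ∀ x, θ x ∈ A' := fun x => by
      have : (⊤ : Subalgebra Γ(Y, V) Γ(X, U)) ≤ A''.comap θ' :=
        hG ▸ Algebra.adjoin_le fun b hb => hall b hb
      exact this (Algebra.mem_top (x := x))
    let θA : Γ(X, U) ⟶ CommRingCat.of A' := CommRingCat.ofHom (θ.hom.codRestrict A'.toSubring hin)
    let x := (Spec.map θA ≫ hU.fromSpec) (closedPoint A')
    have hxz : z ⤳ x := by
      have h1 : (Spec.map (CommRingCat.ofHom A'.subtype) ≫ Spec.map θA ≫ hU.fromSpec)
          (closedPoint (X.residueField z)) = z := by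
        rw [← Spec.map_comp_assoc, show θA ≫ CommRingCat.ofHom A'.subtype = θ from rfl, ← hθ,
          Scheme.fromSpecResidueField_apply]
      rw [← h1, Scheme.Hom.comp_apply]
      exact (specializes_closedPoint (R := A') _).map (Spec.map θA ≫ hU.fromSpec).continuous
    refine hynot ⟨x, hxz.mem_closed hZ hzZ, ?_⟩
    have h2 : Spec.map θA ≫ hU.fromSpec ≫ f = Spec.map χ ≫ hV.fromSpec := by
      rw [← IsAffineOpen.SpecMap_appLE_fromSpec f hV hU hUV, ← Spec.map_comp_assoc]
      congr 2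
      ext a
      exact hA'alg a
    show f x = y
    rw [← hh, ← h2]
    rfl
  let E : Finset (X.residueField z) := insert 1 (G.image fun x => θ x)
  obtain ⟨v, hvE, hvmax⟩ := E.exists_max_image (fun x => A'.valuation x) ⟨1, Finset.mem_insert_self _ _⟩
  have hv1 : (1 : _) < A'.valuation v := by
    refine lt_of_lt_of_le ?_ (hvmax (θ b) (Finset.mem_insert_of_mem (Finset.mem_image_of_mem _ hbG)))
    exact not_le.mp fun h => hb ((A'.valuation_le_one_iff _).mp h)
  have hv0 : v ≠ 0 := fun h => by simp [h] at hv1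
  let B : Subalgebra Γ(Y, V) (X.residueField z) :=
    Algebra.adjoin Γ(Y, V) ((fun x => x * v⁻¹) '' (E : Set (X.residueField z)))
  have hBA : B ≤ A'' := Algebra.adjoin_le fun x hx => by
    obtain ⟨e, he, rfl⟩ := hx
    refine (A'.valuation_le_one_iff _).mp ?_
    rw [map_mul, map_inv₀]
    exact mul_inv_le_one_of_le₀ (hvmax e he) zero_le
  let s : B := ⟨v⁻¹, by
    have := Algebra.subset_adjoin (R := Γ(Y, V)) (show (1 : X.residueField z) * v⁻¹ ∈
      (fun x => x * v⁻¹) '' (E : Set (X.residueField z)) from ⟨1, Finset.mem_insert_self _ _, rfl⟩)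
    rwa [one_mul] at this⟩
  have hs0 : s ≠ 0 := fun h => inv_ne_zero hv0 (congrArg Subtype.val h)
  let toA : B →+* A' := B.val.toRingHom.codRestrict A'.toSubring fun x => hBA x.2
  let cm : Ideal B := (maximalIdeal A').comap toA
  haveI : cm.IsPrime := Ideal.comap_isPrime _ _
  have hscm : s ∈ cm := by
    refine (A'.valuation_lt_one_iff _).mpr ?_
    show A'.valuation v⁻¹ < 1
    rw [map_inv₀]
    exact inv_lt_one_of_one_lt₀ hv1
  obtain ⟨m, hm, hcmle⟩ := Ideal.exists_le_maximal cm (Ideal.IsPrime.ne_top inferInstance)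
  have hmy : m.comap (algebraMap Γ(Y, V) B) = (hV.primeIdealOf ⟨y, hyV⟩).asIdeal := by
    refine (hmax.eq_of_le (Ideal.comap_ne_top _ hm.ne_top) ?_).symm
    have e : (Spec.map χ) (closedPoint A') = hV.primeIdealOf ⟨y, hyV⟩ := by
      refine hV.fromSpec.isOpenEmbedding.injective ?_
      rw [hV.fromSpec_primeIdealOf]
      exact hh
    rw [← e]
    intro a ha
    refine hcmle ?_
    show toA (algebraMap Γ(Y, V) B a) ∈ maximalIdeal A'
    rw [show toA (algebraMap Γ(Y, V) B a) = χ a from Subtype.ext (hA'alg a)]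
    exact ha
  have hBfg : B.FG := ⟨E.image fun x => x * v⁻¹, by simp only [B, Finset.coe_image]⟩
  haveI : Algebra.FiniteType Γ(Y, V) B := (Subalgebra.fg_iff_finiteType B).mp hBfg
  letI : Algebra Γ(S, W) B := ((algebraMap Γ(Y, V) B).comp (algebraMap Γ(S, W) Γ(Y, V))).toAlgebra
  haveI : IsScalarTower Γ(S, W) Γ(Y, V) B := IsScalarTower.of_algebraMap_eq fun _ => rfl
  haveI : Algebra.FiniteType Γ(S, W) B :=
    Algebra.FiniteType.trans ‹Algebra.FiniteType Γ(S, W) Γ(Y, V)› inferInstance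
  obtain ⟨C, _, _, _, φ, c, hft, hnorm, hcmax, hcm, hφ0, honly, hφc, hht⟩ :=
    exists_curve (hS ⟨W, hW⟩) m s hs0 (hcmle hscm)
  let toC : Γ(Y, V) ⟶ CommRingCat.of C := CommRingCat.ofHom (φ.toRingHom.comp (algebraMap Γ(Y, V) B))
  let P : PrimeSpectrum C := ⟨c, hcmax.isPrime⟩
  let Cs : Scheme.{u} := Spec (CommRingCat.of C)
  let g : Cs ⟶ Y := Spec.map toC ≫ hV.fromSpec
  have hgP : g P = y := by
    show hV.fromSpec (Spec.map toC P) = y
    rw [show Spec.map toC P = hV.primeIdealOf ⟨y, hyV⟩ from PrimeSpectrum.ext (by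
      show c.comap (φ.toRingHom.comp (algebraMap Γ(Y, V) B)) = _
      rw [← Ideal.comap_comap, hcm, hmy]), hV.fromSpec_primeIdealOf]
  haveI hgl : LocallyOfFiniteType (Spec.map toC) := by
    rw [HasRingHomProperty.Spec_iff (P := @LocallyOfFiniteType)]
    letI : Algebra Γ(Y, V) C := toC.hom.toAlgebra
    haveI : IsScalarTower Γ(S, W) Γ(Y, V) C :=
      IsScalarTower.of_algebraMap_eq fun a => (φ.commutes a).symm
    exact RingHom.finiteType_algebraMap.mpr
      (Algebra.FiniteType.of_restrictScalars_finiteType Γ(S, W) Γ(Y, V) C)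
  haveI : IsNoetherianRing C := Algebra.FiniteType.isNoetherianRing Γ(S, W) C
  haveI : IsLocallyNoetherian Cs := inferInstance
  haveI : AlgebraicGeometry.IsNoetherian Cs := { }
  haveI : LocallyOfFiniteType (g ≫ q) := inferInstance
  haveI : QuasiCompact (g ≫ q) := inferInstance
  have halg : ∀ x : Cs, IsIntegrallyClosed (Cs.presheaf.stalk x) := fun x => by
    letI : Algebra C ((Spec (CommRingCat.of C)).presheaf.stalk x) := StructureSheaf.stalkAlgebra C x
    haveI : @IsLocalization C _ x.asIdeal.primeCompl ((Spec (CommRingCat.of C)).presheaf.stalk x) _ _ :=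
      StructureSheaf.IsLocalization.to_stalk C x
    exact isIntegrallyClosed_of_isLocalization _ x.asIdeal.primeCompl x.asIdeal.primeCompl_le_nonZeroDivisors
  have hdim : ringKrullDim (Cs.presheaf.stalk P) = 1 := by
    letI : Algebra C ((Spec (CommRingCat.of C)).presheaf.stalk P) := StructureSheaf.stalkAlgebra C P
    haveI : IsLocalization.AtPrime ((Spec (CommRingCat.of C)).presheaf.stalk P) P.asIdeal :=
      StructureSheaf.IsLocalization.to_stalk C P
    show ringKrullDim ((Spec (CommRingCat.of C)).presheaf.stalk P) = 1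
    rw [IsLocalization.AtPrime.ringKrullDim_eq_height P.asIdeal ((Spec (CommRingCat.of C)).presheaf.stalk P)]
    exact congrArg _ hht
  let σ : C := φ s
  let O : Cs.Opens := PrimeSpectrum.basicOpen σ
  have hO : (O : Set Cs) = {P}ᶜ := by
    ext p
    refine ⟨fun hp h => hp (h ▸ hφc), fun hp hσ => hp (PrimeSpectrum.ext (honly _ p.isPrime hσ))⟩
  let ι : Localization.Away s →+* X.residueField z :=
    IsLocalization.Away.lift s (g := B.val.toRingHom) (isUnit_iff_ne_zero.mpr (inv_ne_zero hv0))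
  have hι : Function.Injective ι := by
    rw [injective_iff_map_eq_zero]
    intro x hx
    obtain ⟨n, a, ha⟩ := IsLocalization.Away.surj s x
    have h1 := congrArg ι ha
    rw [map_mul, hx, zero_mul, IsLocalization.Away.lift_eq] at h1
    have : a = 0 := Subtype.ext h1.symm
    rw [this, map_zero] at ha
    exact ((IsLocalization.Away.algebraMap_isUnit s).pow n).mul_left_eq_zero.mp ha
  have hrange : ∀ x, θ x ∈ ι.range := by
    let R₁ : Subalgebra Γ(Y, V) (X.residueField z) :=
      { ι.range with algebraMap_mem' := fun a =>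
          ⟨algebraMap B _ (algebraMap Γ(Y, V) B a), IsLocalization.Away.lift_eq _ _ _⟩ }
    have hG' : ∀ x ∈ G, θ x ∈ R₁ := by
      intro x hx
      obtain ⟨n, hn⟩ : ∃ w, ι w = v := by
        obtain ⟨w, hw⟩ := (IsLocalization.Away.algebraMap_isUnit (S := Localization.Away s) s).exists_left_inv
        refine ⟨w, ?_⟩
        have h1 := congrArg ι hw
        rw [map_mul, map_one, IsLocalization.Away.lift_eq] at h1
        change ι w * v⁻¹ = 1 at h1
        exact (mul_inv_eq_one₀ hv0).mp h1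
      refine ⟨algebraMap B _ ⟨θ x * v⁻¹, Algebra.subset_adjoin
        ⟨θ x, Finset.mem_insert_of_mem (Finset.mem_image_of_mem _ hx), rfl⟩⟩ * n, ?_⟩
      rw [map_mul, IsLocalization.Away.lift_eq, hn]
      exact inv_mul_cancel_right₀ hv0 (θ x)
    intro x
    have : (⊤ : Subalgebra Γ(Y, V) Γ(X, U)) ≤ R₁.comap θ' := hG ▸ Algebra.adjoin_le fun b hb => hG' b hb
    exact this (Algebra.mem_top (x := x))
  let ψ : Γ(X, U) →+* Localization.Away s :=
    ((RingEquiv.ofBijective ι.rangeRestrict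
      ⟨fun a b h => hι (congrArg Subtype.val h), ι.rangeRestrict_surjective⟩).symm.toRingHom).comp
      (θ.hom.codRestrict ι.range hrange)
  have hψ : ∀ x, ι (ψ x) = θ x := fun x =>
    congrArg Subtype.val ((RingEquiv.ofBijective ι.rangeRestrict
      ⟨fun a b h => hι (congrArg Subtype.val h), ι.rangeRestrict_surjective⟩).apply_symm_apply
        (θ.hom.codRestrict ι.range hrange x))
  let toσ : Localization.Away s →+* Localization.Away σ :=
    IsLocalization.Away.lift s (g := (algebraMap C (Localization.Away σ)).comp φ.toRingHom)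
      (IsLocalization.Away.algebraMap_isUnit σ)
  let η : Γ(X, U) ⟶ CommRingCat.of (Localization.Away σ) := CommRingCat.ofHom (toσ.comp ψ)
  let u : (O : Scheme.{u}) ⟶ X :=
    (basicOpenIsoSpecAway (R := CommRingCat.of C) σ).hom ≫ Spec.map η ≫ hU.fromSpec
  have hu : u ≫ f = O.ι ≫ g := by
    show _ = Scheme.Opens.ι (X := Spec (CommRingCat.of C)) (PrimeSpectrum.basicOpen σ) ≫ g
    rw [← basicOpenIsoSpecAway_hom_SpecMap (R := CommRingCat.of C) σ]
    simp only [u, g, Category.assoc]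
    rw [← IsAffineOpen.SpecMap_appLE_fromSpec f hV hU hUV, ← Spec.map_comp_assoc, ← Spec.map_comp_assoc]
    congr 3
    ext a
    show toσ (ψ (f.appLE V U hUV a)) = algebraMap C _ (φ (algebraMap Γ(Y, V) B a))
    have : ψ (f.appLE V U hUV a) = algebraMap B _ (algebraMap Γ(Y, V) B a) :=
      hι ((hψ _).trans (by rw [IsLocalization.Away.lift_eq]; rfl))
    rw [this, IsLocalization.Away.lift_eq]
    rfl
  haveI : IsDomain (Cs.presheaf.stalk P) := by
    letI : Algebra C ((Spec (CommRingCat.of C)).presheaf.stalk P) := StructureSheaf.stalkAlgebra C P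
    haveI : IsLocalization.AtPrime ((Spec (CommRingCat.of C)).presheaf.stalk P) P.asIdeal :=
      StructureSheaf.IsLocalization.to_stalk C P
    exact IsLocalization.isDomain_of_le_nonZeroDivisors _ P.asIdeal.primeCompl_le_nonZeroDivisors
  let toF := Spec.map (CommRingCat.ofHom (algebraMap (Cs.presheaf.stalk P)
    (FractionRing (Cs.presheaf.stalk P)))) ≫ Cs.fromSpecStalk P
  have hgen : ∀ t, toF t ∈ O := by
    intro t hσt
    have h1 : toF t = P := PrimeSpectrum.ext (honly _ (toF t).isPrime hσt)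
    have h2 : Spec.map (CommRingCat.ofHom (algebraMap (Cs.presheaf.stalk P)
        (FractionRing (Cs.presheaf.stalk P)))) t = closedPoint _ := by
      apply (Cs.fromSpecStalk P).isEmbedding.injective
      exact h1.trans (Cs.fromSpecStalk_closedPoint).symm
    have h3 := congrArg PrimeSpectrum.asIdeal h2
    change t.asIdeal.comap (algebraMap _ _) = maximalIdeal _ at h3
    rw [Ideal.eq_bot_of_prime t.asIdeal, ← RingHom.ker_eq_comap_bot,
      (RingHom.injective_iff_ker_eq_bot _).mp (IsFractionRing.injective _ _)] at h3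
    have h4 := hdim
    rw [ringKrullDim_eq_zero_of_isField ((IsLocalRing.isField_iff_maximalIdeal_eq).mpr h3.symm)] at h4
    exact zero_ne_one h4
  let k := IsOpenImmersion.lift O.ι toF (by
    rintro _ ⟨t, rfl⟩
    rw [Scheme.Opens.range_ι]
    exact hgen t)
  obtain ⟨l, hl, hl'⟩ := H Cs (g ≫ q) halg P ((PrimeSpectrum.isClosed_singleton_iff_isMaximal P).mpr hcmax)
    hdim O hO u g rfl hu k (IsOpenImmersion.lift_fac _ _ _)
  refine hynot ⟨l (closedPoint _), ?_, ?_⟩
  · have hs1 : l (Spec.map (CommRingCat.ofHom (algebraMap (Cs.presheaf.stalk P)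
        (FractionRing (Cs.presheaf.stalk P)))) (closedPoint _)) ⤳ l (closedPoint _) :=
      (specializes_closedPoint _).map l.continuous
    rw [← Scheme.Hom.comp_apply, hl'] at hs1
    have hs2 : z ⤳ (k ≫ u) (closedPoint _) := by
      let t := (basicOpenIsoSpecAway (R := CommRingCat.of C) σ).hom (k (closedPoint _))
      have e : (k ≫ u) (closedPoint _) = hU.fromSpec (Spec.map η t) := rfl
      rw [e]
      have e2 : hU.fromSpec (Spec.map θ (closedPoint _)) = z := by
        rw [← Scheme.Hom.comp_apply, ← hθ, Scheme.fromSpecResidueField_apply]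
      rw [← e2]
      refine ((PrimeSpectrum.le_iff_specializes _ _).mp ?_).map hU.fromSpec.continuous
      intro x hx
      have h0 : θ x = 0 := by
        have : θ x ∈ maximalIdeal (X.residueField z) := hx
        rwa [maximalIdeal_eq_bot, Ideal.mem_bot] at this
      show toσ (ψ x) ∈ t.asIdeal
      rw [show ψ x = 0 from hι ((hψ x).trans (h0.trans (map_zero ι).symm)), map_zero]
      exact t.asIdeal.zero_mem
    exact (hs2.trans hs1).mem_closed hZ hzZ
  · rw [← Scheme.Hom.comp_apply, hl, Scheme.Hom.comp_apply, Scheme.fromSpecStalk_closedPoint, hgP]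

end Groth.Agent.CurveTest
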